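import Groth.Agent.Lib.TsenLang.Basic
import Mathlib.FieldTheory.Galois.Basic
import Mathlib.FieldTheory.LinearDisjoint
import Mathlib.RingTheory.Norm.Transitivity
import Mathlib.GroupTheory.Sylow
import Mathlib.GroupTheory.Complement
import Mathlib.GroupTheory.IndexNormal
import Mathlib.RingTheory.Coprime.Lemmas
import Mathlib.GroupTheory.OrderOfElement
import Mathlib.LinearAlgebra.FreeModule.Norm
import Mathlib.LinearAlgebra.LinearIndependent.Lemmas

/-!
# Norms in Galois extensions of `C₁` fields
-/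

namespace Groth.Agent.NormKer25

open MvPolynomial
open scoped BigOperators

universe u v

/-- Norms are surjective over a `C₁` field. -/
theorem norm_surjective_of_isCi_one {E : Type u} [Field E] {L : Type v} [Field L] [Algebra E L]
    [FiniteDimensional E L] (hE : Curves.IsCi E 1) (a : E) : ∃ z : L, Algebra.norm E z = a := by
  classical
  rcases eq_or_ne a 0 with rfl | ha
  · exact ⟨0, Algebra.norm_zero⟩
  let d := Module.finrank E L
  have hd : 0 < d := Module.finrank_pos
  let b := Module.finBasis E L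
  let M : Matrix (Fin d) (Fin d) (MvPolynomial (Fin (d + 1)) E) :=
    ∑ l, (X l.castSucc : MvPolynomial (Fin (d + 1)) E) • (Algebra.leftMulMatrix b (b l)).map C
  have hM : M.det.IsHomogeneous d := by
    rw [Matrix.det_apply]
    refine IsHomogeneous.sum _ _ _ fun s _ => ?_
    have hp : (∏ i, M (s i) i).IsHomogeneous d := by
      have h := IsHomogeneous.prod Finset.univ (fun i => M (s i) i) (fun _ => 1) (fun i _ => by
        simp only [M, Matrix.sum_apply, Matrix.smul_apply, Matrix.map_apply, smul_eq_mul]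
        refine IsHomogeneous.sum _ _ _ fun l _ => ?_
        exact (isHomogeneous_X E _).mul (isHomogeneous_C _ _))
      simpa using h
    exact (homogeneousSubmodule (Fin (d + 1)) E d).toAddSubgroup.zsmul_mem hp _
  let f := M.det - C a * X (Fin.last d) ^ d
  have hf : f.IsHomogeneous d := hM.sub (by
    simpa using ((isHomogeneous_X E (Fin.last d)).pow d).C_mul a)
  obtain ⟨t, ht, h0⟩ := hE 1 (d + 1) (fun _ => f) (fun _ => d) (fun _ => hf) (fun _ => hd) (by simp)
  let z : L := ∑ l, t l.castSucc • b l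
  have hz : Algebra.norm E z = a * t (Fin.last d) ^ d := by
    have h := h0 0
    simp only [f, map_sub, map_mul, map_pow, eval_C, eval_X, sub_eq_zero, RingHom.map_det] at h
    rw [Algebra.norm_eq_matrix_det b, ← h]
    congr 1
    ext p q
    simp [z, M, Matrix.sum_apply, map_sum, Matrix.map_apply]
  have htl : t (Fin.last d) ≠ 0 := by
    intro h
    rw [h, zero_pow hd.ne', mul_zero, Algebra.norm_eq_zero_iff] at hz
    exact ht (funext fun i => Fin.lastCases h
      (fun l => Fintype.linearIndependent_iff.1 b.linearIndependent (fun l => t l.castSucc) hz l) i)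
  refine ⟨algebraMap E L (t (Fin.last d))⁻¹ * z, ?_⟩
  rw [map_mul, Algebra.norm_algebraMap, hz, inv_pow]
  field_simp
  rfl

section group

variable {K L : Type u} [Field K] [Field L] [Algebra K L] [FiniteDimensional K L]

local notation "Γ" => L ≃ₐ[K] L

/-- The generators `w / g w` with `g` in `H`. -/
def aug (H : Subgroup Γ) : Subgroup Lˣ :=
  Subgroup.closure {v : Lˣ | ∃ (w : Lˣ) (g : Γ), g ∈ H ∧ (v : L) = (w : L) / g (w : L)}

theorem aug_mono {H H' : Subgroup Γ} (h : H' ≤ H) : aug H' ≤ aug H :=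
  Subgroup.closure_mono fun _ ⟨w, g, hg, hv⟩ => ⟨w, g, h hg, hv⟩

/-- The action on units. -/
noncomputable def act (g : Γ) : Lˣ →* Lˣ := Units.map g.toRingEquiv.toRingHom.toMonoidHom

@[simp] theorem coe_act (g : Γ) (u : Lˣ) : (act g u : L) = g u := rfl

theorem act_mul (g h : Γ) (u : Lˣ) : act (g * h) u = act g (act h u) := Units.ext rfl

theorem div_act_mem {H : Subgroup Γ} {g : Γ} (hg : g ∈ H) (w : Lˣ) : w / act g w ∈ aug H :=
  Subgroup.subset_closure ⟨w, g, hg, by rw [Units.val_div_eq_div_val, coe_act]⟩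

/-- The product of the conjugates. -/
noncomputable def nrm (H : Subgroup Γ) : Lˣ →* Lˣ := ∏ᶠ h : H, act (h : Γ)

theorem nrm_apply (H : Subgroup Γ) [Fintype H] (u : Lˣ) : nrm H u = ∏ h : H, act (h : Γ) u := by
  rw [nrm, finprod_eq_prod_of_fintype, MonoidHom.finsetProd_apply]

theorem coe_nrm (H : Subgroup Γ) [Fintype H] (u : Lˣ) : (nrm H u : L) = ∏ h : H, (h : Γ) u := by
  rw [nrm_apply, Units.coe_prod]; rfl

theorem nrm_surjective (hK : Curves.IsCi K 1) (H : Subgroup Γ) (a : Lˣ)
    (ha : ∀ h ∈ H, h (a : L) = a) : ∃ z : Lˣ, nrm H z = a := by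
  classical
  cases nonempty_fintype H
  let E := IntermediateField.fixedField H
  haveI : IsGalois E L := IsGalois.of_fixed_field L H
  obtain ⟨z, hz⟩ := norm_surjective_of_isCi_one (L := L) (TsenLang.isCi_of_finite (E := E) hK) ⟨a, fun h => ha _ h.2⟩
  have hz' : algebraMap E L (Algebra.norm E z) = ∏ h : H, (h : Γ) z := by
    rw [Algebra.norm_eq_prod_automorphisms]
    refine (Fintype.prod_equiv
      ((MulEquiv.subgroupCongr (IntermediateField.fixingSubgroup_fixedField H)).symm.trans
        (IntermediateField.fixingSubgroupEquiv E)).toEquiv _ _ fun h => ?_).symm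
    rfl
  have hz0 : z ≠ 0 := fun h => a.ne_zero (by
    have := congrArg (algebraMap E L) hz
    rw [h, Algebra.norm_zero, map_zero] at this
    exact this.symm)
  refine ⟨Units.mk0 z hz0, Units.ext ?_⟩
  rw [coe_nrm, Units.val_mk0, ← hz', hz]
  rfl

theorem nrm_of_bijective {T : Type*} [Fintype T] (H H' : Subgroup Γ) (t : T → Γ)
    (e : T × H' ≃ H) (he : ∀ x, ((e x : H) : Γ) = t x.1 * x.2) (u : Lˣ) :
    nrm H u = ∏ i, act (t i) (nrm H' u) := by
  classical
  cases nonempty_fintype H
  cases nonempty_fintype H'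
  simp only [nrm_apply, map_prod, ← act_mul]
  rw [← Fintype.prod_prod_type' (fun i (h : H') => act (t i * (h : Γ)) u)]
  exact (Fintype.prod_equiv e _ _ fun x => by rw [he]).symm

theorem act_nrm (H : Subgroup Γ) (x : Lˣ) (h : Γ) (hh : h ∈ H) : act h (nrm H x) = nrm H x := by
  classical
  cases nonempty_fintype H
  rw [nrm_apply, map_prod]
  refine Fintype.prod_equiv (Equiv.mulLeft (⟨h, hh⟩ : H)) _ _ fun y => ?_
  rw [Equiv.coe_mulLeft, Subgroup.coe_mul, act_mul]

theorem mem_aug_of_pgroup (hK : Curves.IsCi K 1) (p : ℕ) [Fact p.Prime] :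
    ∀ (n : ℕ) (H : Subgroup Γ), Nat.card H = p ^ n → ∀ u : Lˣ, nrm H u = 1 → u ∈ aug H := by
  classical
  intro n
  induction n with
  | zero =>
    intro H hH u hu
    cases nonempty_fintype H
    haveI : Subsingleton H := (Nat.card_eq_one_iff_unique.1 (by simpa using hH)).1
    rw [nrm_apply, Fintype.prod_subsingleton _ (1 : H)] at hu
    have : u = 1 := (show act ((1 : H) : Γ) u = u from Units.ext rfl).symm.trans hu
    rw [this]
    exact one_mem _
  | succ n ih =>
    intro H hH u hu
    have hp := (Fact.out : p.Prime)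
    obtain ⟨P, hP⟩ := Sylow.exists_subgroup_card_pow_prime (G := H) p (n := n)
      (hH ▸ pow_dvd_pow p (Nat.le_succ n))
    have hidx : P.index = p := by
      have := P.card_mul_index
      rw [hP, hH, pow_succ] at this
      exact Nat.eq_of_mul_eq_mul_left (pow_pos hp.pos n) this
    haveI hPn : P.Normal := Subgroup.normal_of_index_eq_minFac_card (by
      rw [hidx, hH, Nat.pow_minFac n.succ_ne_zero, hp.minFac_eq])
    let H' : Subgroup Γ := P.map H.subtype
    have hH' : Nat.card H' = p ^ n := by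
      rw [← hP]
      exact (Nat.card_congr (P.equivMapOfInjective H.subtype Subtype.val_injective).toEquiv).symm
    have hle : H' ≤ H := Subgroup.map_subtype_le P
    obtain ⟨g, hg⟩ : ∃ g : H, g ∉ P := by
      by_contra! h
      have : P = ⊤ := eq_top_iff.2 fun x _ => h x
      rw [this, Subgroup.index_top] at hidx
      exact hp.one_lt.ne hidx
    have hgp : g ^ p ∈ P := by
      rw [← hidx]; exact Subgroup.pow_index_mem P g
    have hdvd : ∀ i : ℕ, g ^ i ∈ P → p ∣ i := by
      intro i hi
      by_contra hpi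
      obtain ⟨a, b, hab⟩ := Int.isCoprime_iff_gcd_eq_one.2 (show Int.gcd (i : ℤ) (p : ℤ) = 1 by
        rw [Int.gcd_natCast_natCast]; exact (hp.coprime_iff_not_dvd.2 hpi).symm)
      have : g ^ ((a : ℤ) * i + b * p) ∈ P := by
        rw [zpow_add, mul_comm a, mul_comm b, zpow_mul, zpow_mul, zpow_natCast, zpow_natCast]
        exact mul_mem (zpow_mem hi a) (zpow_mem hgp b)
      rw [hab, zpow_one] at this
      exact hg this
    let em : Fin p × H' → H := fun x => g ^ (x.1 : ℕ) * ⟨(x.2 : Γ), hle x.2.2⟩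
    have hinj : Function.Injective em := by
      rintro ⟨i, x⟩ ⟨j, y⟩ h
      have hxP : ∀ z : H', (⟨(z : Γ), hle z.2⟩ : H) ∈ P := by
        rintro ⟨_, z, hz, rfl⟩
        exact hz
      have key : ∀ (i j : Fin p) (x y : H'), (j : ℕ) ≤ i → em (i, x) = em (j, y) → i = j := by
        intro i j x y hji h
        have h1 : g ^ ((i : ℕ) - j) = ⟨(y : Γ), hle y.2⟩ * (⟨(x : Γ), hle x.2⟩ : H)⁻¹ := by
          rw [eq_mul_inv_iff_mul_eq]
          apply mul_left_cancel (a := g ^ (j : ℕ))
          rw [← mul_assoc, ← pow_add, Nat.add_sub_cancel' hji]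
          exact h
        have h2 := hdvd _ (h1 ▸ mul_mem (hxP y) (inv_mem (hxP x)))
        rcases Nat.eq_zero_or_pos ((i : ℕ) - j) with h3 | h3
        · exact Fin.ext (by omega)
        · have := Nat.le_of_dvd h3 h2; omega
      have hij : i = j := by
        rcases le_total (i : ℕ) j with hl | hl
        · exact (key j i y x hl h.symm).symm
        · exact key i j x y hl h
      subst hij
      have := mul_left_cancel h
      exact Prod.ext rfl (Subtype.ext (congrArg (fun z : H => (z : Γ)) this))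
    let e : Fin p × H' ≃ H := Equiv.ofBijective em ((Nat.bijective_iff_injective_and_card em).2 ⟨hinj, by
      rw [Nat.card_prod, Nat.card_fin, hH', hH, pow_succ']⟩)
    let γ : Γ := (g : Γ)
    set v := nrm H' u with hv
    cases nonempty_fintype H'
    have hvfix : ∀ (x : Lˣ), ∀ h ∈ H', act h (nrm H' x) = nrm H' x := fun x h hh => act_nrm H' x h hh
    have hnorm : ∀ h ∈ H', γ * h * γ⁻¹ ∈ H' ∧ γ⁻¹ * h * γ ∈ H' := by
      rintro _ ⟨z, hz, rfl⟩
      exact ⟨⟨g * z * g⁻¹, hPn.conj_mem z hz g, rfl⟩, ⟨g⁻¹ * z * g, by simpa using hPn.conj_mem z hz g⁻¹, rfl⟩⟩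
    have hcomm : ∀ x, nrm H' (act γ x) = act γ (nrm H' x) := by
      intro x
      rw [nrm_apply, nrm_apply, map_prod]
      refine Fintype.prod_equiv
        { toFun := fun (h : H') => (⟨γ⁻¹ * h * γ, (hnorm h h.2).2⟩ : H')
          invFun := fun (h : H') => (⟨γ * h * γ⁻¹, (hnorm h h.2).1⟩ : H')
          left_inv := fun h => Subtype.ext (by simp [mul_assoc])
          right_inv := fun h => Subtype.ext (by simp [mul_assoc]) } _ _ fun h => ?_
      show act (h : Γ) (act γ x) = act γ (act (γ⁻¹ * (h : Γ) * γ) x)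
      rw [← act_mul, ← act_mul]
      congr 1
      simp [mul_assoc]
    have hNv : ∏ i : Fin p, act (γ ^ (i : ℕ)) v = 1 := by
      rw [hv, ← nrm_of_bijective H H' (fun i : Fin p => γ ^ (i : ℕ)) e (fun x => ?_), hu]
      simp [e, em, γ]
    -- Hilbert 90 on the fixed field of `H'`
    let E' := IntermediateField.fixedField H'
    have hlin : LinearIndependent L (fun i : Fin p =>
        ((((γ ^ (i : ℕ) : Γ) : L →ₐ[K] L).comp E'.val : E' →ₐ[K] L).toRingHom.toMonoidHom : E' → L)) := by
      refine (linearIndependent_monoidHom E' L).comp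
        (fun i : Fin p => (((γ ^ (i : ℕ) : Γ) : L →ₐ[K] L).comp E'.val : E' →ₐ[K] L).toRingHom.toMonoidHom) ?_
      intro i j hij
      have key : ∀ i j : Fin p, (j : ℕ) ≤ i → (∀ x : E', (γ ^ (i : ℕ)) (x : L) = (γ ^ (j : ℕ)) (x : L)) → i = j := by
        intro i j hji h
        have hfix : γ ^ ((i : ℕ) - j) ∈ IntermediateField.fixingSubgroup E' := by
          rw [IntermediateField.mem_fixingSubgroup_iff]
          intro x hx
          apply (γ ^ (j : ℕ)).injective
          have := h ⟨x, hx⟩
          rwa [← Nat.add_sub_cancel' hji, pow_add] at this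
        rw [IntermediateField.fixingSubgroup_fixedField] at hfix
        obtain ⟨z, hz, hzg⟩ := hfix
        have hz' : z = g ^ ((i : ℕ) - j) := Subtype.ext (by simpa [γ] using hzg)
        have h2 := hdvd _ (hz' ▸ hz)
        rcases Nat.eq_zero_or_pos ((i : ℕ) - j) with h3 | h3
        · exact Fin.ext (by omega)
        · have := Nat.le_of_dvd h3 h2; omega
      rcases le_total (i : ℕ) j with hl | hl
      · exact (key j i hl fun x => (DFunLike.congr_fun hij x).symm).symm
      · exact key i j hl fun x => DFunLike.congr_fun hij x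
    let c : ℕ → Lˣ := fun i => ∏ j ∈ Finset.range i, act (γ ^ j) v
    have hcS : ∀ i, act γ (c i) * v = c (i + 1) := by
      intro i
      simp only [c]
      rw [Finset.prod_range_succ', map_prod]
      congr 1
      · exact Finset.prod_congr rfl fun j _ => by rw [pow_succ', act_mul]
    have hc0 : c p = 1 := by
      simp only [c]; rw [← Fin.prod_univ_eq_prod_range]; exact hNv
    obtain ⟨θ, hθ⟩ : ∃ θ : E', ∑ i : Fin p, (c i : L) * (γ ^ (i : ℕ)) (θ : L) ≠ 0 := by
      by_contra! h
      refine (c 0).ne_zero (Fintype.linearIndependent_iff.1 hlin (fun i => (c i : L)) (funext fun x => ?_) ⟨0, hp.pos⟩)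
      rw [Finset.sum_apply, Pi.zero_apply]
      exact h x
    have hgfix : ∀ h ∈ H', ∀ i : ℕ, (γ ^ i)⁻¹ * h * γ ^ i ∈ H' := by
      intro h hh i
      induction i generalizing h with
      | zero => simpa using hh
      | succ i ih2 => simpa [pow_succ', mul_assoc] using ih2 _ ((hnorm h hh).2)
    have hfixi : ∀ (i : ℕ) (x : L), (∀ h ∈ H', h x = x) → ∀ h ∈ H', h ((γ ^ i) x) = (γ ^ i) x := by
      intro i x hx h hh
      have := congrArg (γ ^ i) (hx _ (hgfix h hh i))
      rw [← AlgEquiv.mul_apply, ← mul_assoc, ← mul_assoc, mul_inv_cancel, one_mul, AlgEquiv.mul_apply] at this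
      exact this
    have hcfix : ∀ (i : ℕ), ∀ h ∈ H', h (c i : L) = (c i : L) := by
      intro i h hh
      simp only [c, Units.coe_prod, map_prod, coe_act]
      exact Finset.prod_congr rfl fun j _ =>
        hfixi j _ (fun h' hh' => congrArg Units.val (hvfix u h' hh')) h hh
    let w₀ : L := ∑ i : Fin p, (c i : L) * (γ ^ (i : ℕ)) (θ : L)
    let w : Lˣ := Units.mk0 w₀ hθ
    have hwfix : ∀ h ∈ H', h (w : L) = w := by
      intro h hh
      show h w₀ = w₀
      simp only [w₀, map_sum, map_mul]
      exact Finset.sum_congr rfl fun i _ => by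
        rw [hcfix i h hh, hfixi i _ (fun h' hh' => θ.2 ⟨h', hh'⟩) h hh]
    have hgp' : (γ ^ p) (θ : L) = θ := θ.2 ⟨γ ^ p, ⟨g ^ p, hgp, by simp [γ]⟩⟩
    have hwv : act γ w * v = w := by
      ext
      rw [Units.val_mul, coe_act]
      show γ w₀ * (v : L) = w₀
      simp only [w₀, map_sum, Finset.sum_mul, map_mul]
      rw [Fin.sum_univ_eq_sum_range (fun i => γ (c i : L) * γ ((γ ^ i) (θ : L)) * (v : L)) p,
        Fin.sum_univ_eq_sum_range (fun i => (c i : L) * (γ ^ i) (θ : L)) p]
      have hterm : ∀ i, γ (c i : L) * γ ((γ ^ i) (θ : L)) * (v : L) = (c (i + 1) : L) * (γ ^ (i + 1)) (θ : L) := by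
        intro i
        rw [← hcS, Units.val_mul, coe_act, pow_succ', AlgEquiv.mul_apply]; ring
      simp only [hterm]
      have h1 := Finset.sum_range_succ' (fun i => (c i : L) * (γ ^ i) (θ : L)) p
      rw [Finset.sum_range_succ, hc0, hgp'] at h1
      simp only [c, Finset.range_zero, Finset.prod_empty, pow_zero, AlgEquiv.one_apply] at h1
      exact (add_right_cancel h1).symm
    obtain ⟨z, hz⟩ := nrm_surjective hK H' w hwfix
    have hv1 : nrm H' (z / act γ z) = v := by
      rw [map_div, hcomm, hz, div_eq_iff_eq_mul, mul_comm, hwv]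
    have hu' : nrm H' (u / (z / act γ z)) = 1 := by rw [map_div, hv1, div_self']
    have := mul_mem (aug_mono hle (ih H' hH' _ hu')) (div_act_mem (H := H) (g := γ) g.2 z)
    rwa [div_mul_cancel] at this

theorem mem_aug_top (hK : Curves.IsCi K 1) (u : Lˣ) (hu : nrm (⊤ : Subgroup Γ) u = 1) : u ∈ aug (⊤ : Subgroup Γ) := by
  classical
  let I := aug (⊤ : Subgroup Γ)
  let q : Lˣ ⧸ I := QuotientGroup.mk u
  suffices h : orderOf q = 1 by
    exact (QuotientGroup.eq_one_iff u).1 (orderOf_eq_one_iff.1 h)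
  by_contra hne
  obtain ⟨p, hp, hpd⟩ := Nat.exists_prime_and_dvd hne
  haveI := Fact.mk hp
  let P : Sylow p Γ := default
  obtain ⟨n, hn⟩ := P.2.exists_card_eq
  obtain ⟨T, hT, -⟩ := (P : Subgroup Γ).exists_isComplement_right 1
  haveI : Finite T := Subtype.finite
  cases nonempty_fintype T
  cases nonempty_fintype (P : Subgroup Γ)
  let U : Lˣ := ∏ t : T, act (t : Γ) u
  have hU : nrm (P : Subgroup Γ) U = 1 := by
    rw [nrm_apply]
    simp only [U, map_prod, ← act_mul]
    rw [← Fintype.prod_prod_type' (fun (h : (P : Subgroup Γ)) (t : T) => act ((h : Γ) * (t : Γ)) u), ← hu,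
      nrm_apply]
    exact Fintype.prod_equiv ((Equiv.ofBijective _ hT).trans Subgroup.topEquiv.symm.toEquiv) _ _ fun x => rfl
  have h1 : U ∈ I := aug_mono le_top (mem_aug_of_pgroup hK p n _ hn U hU)
  have h2 : u ^ Fintype.card T / U ∈ I := by
    simp only [U]
    rw [← Finset.card_univ, ← Finset.prod_const, ← Finset.prod_div_distrib]
    exact Subgroup.prod_mem _ fun t _ => div_act_mem (Subgroup.mem_top _) u
  have h3 : orderOf q ∣ Fintype.card T := by
    refine orderOf_dvd_of_pow_eq_one ?_
    rw [← QuotientGroup.mk_pow, QuotientGroup.eq_one_iff]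
    simpa using mul_mem h2 h1
  rw [← Nat.card_eq_fintype_card, hT.card_right] at h3
  exact P.not_dvd_index (hpd.trans h3)

/-- In a Galois extension of a `C₁` field the norm is onto and its kernel is generated by the
`w / g w`. -/
theorem main [IsGalois K L] (hK : Curves.IsCi K 1) :
    Function.Surjective (Algebra.norm K : L → K) ∧
      ∀ u : Lˣ, Algebra.norm K (u : L) = 1 ↔
        u ∈ Subgroup.closure {v : Lˣ | ∃ (w : Lˣ) (g : L ≃ₐ[K] L), (v : L) = (w : L) / g (w : L)} := by
  classical
  refine ⟨fun a => norm_surjective_of_isCi_one hK a, fun u => ?_⟩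
  constructor
  · intro h
    have hu : nrm (⊤ : Subgroup Γ) u = 1 := by
      refine Units.ext ?_
      rw [coe_nrm, Units.val_one, Fintype.prod_equiv Subgroup.topEquiv.toEquiv
        (fun g : (⊤ : Subgroup Γ) => (g : Γ) (u : L)) (fun g => g (u : L)) (fun _ => rfl),
        ← Algebra.norm_eq_prod_automorphisms, h, map_one]
    refine Subgroup.closure_mono ?_ (mem_aug_top hK u hu)
    rintro v ⟨w, g, -, hv⟩
    exact ⟨w, g, hv⟩
  · intro h
    induction h using Subgroup.closure_induction with
    | mem v hv =>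
      obtain ⟨w, g, hv⟩ := hv
      have h1 : Algebra.norm K (v : L) * Algebra.norm K (g (w : L)) = Algebra.norm K (w : L) := by
        rw [← map_mul, hv, div_mul_cancel₀ _ ((_root_.map_ne_zero g).2 w.ne_zero)]
      rw [Algebra.norm_eq_of_algEquiv g (w : L)] at h1
      exact mul_eq_right₀ (Algebra.norm_ne_zero_iff.2 w.ne_zero) |>.1 h1
    | one => simp
    | mul x y _ _ hx hy => rw [Units.val_mul, map_mul, hx, hy, one_mul]
    | inv x _ hx =>
      have h1 : Algebra.norm K ((x⁻¹ : Lˣ) : L) * Algebra.norm K (x : L) = 1 := by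
        rw [← map_mul, Units.inv_mul, map_one]
      rwa [hx, mul_one] at h1

end group

end Groth.Agent.NormKer25
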